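import Mathlib

/-!
# Adjacent numbers with two prime divisors

Adjacent numbers greater than one dividing `2 ^ a * q ^ b` are a power of two and `q`.
-/

set_option autoImplicit false

namespace Cfsg.Lib.NinePrime

theorem sum_range_mod_two {Q : ℕ} (hQ : Odd Q) (m : ℕ) : (∑ i ∈ Finset.range m, Q ^ i) % 2 = m % 2 := by
  induction m with
  | zero => simp
  | succ k ih =>
    have h : Q ^ k % 2 = 1 := Nat.odd_iff.1 hQ.pow
    rw [Finset.sum_range_succ]
    omega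

/-- The exponent of a power of an odd number adjacent to a power of two is one. -/
theorem exp_eq_one {q j i : ℕ} (hq : 5 ≤ q) (hodd : Odd q) (hj : j ≠ 0)
    (h : q ^ j + 1 = 2 ^ i ∨ 2 ^ i + 1 = q ^ j) : j = 1 := by
  by_contra hj1
  have hj2 : 2 ≤ j := by omega
  have hqj : q * q ≤ q ^ j := by rw [← pow_two]; exact Nat.pow_le_pow_right (by omega) hj2
  have hqq : 25 ≤ q * q := Nat.mul_le_mul hq hq
  have hq1 : q % 2 = 1 := Nat.odd_iff.1 hodd
  rcases Nat.even_or_odd j with ⟨k, hk⟩ | hjo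
  · subst hk
    have hQ : q ^ k % 2 = 1 := Nat.odd_iff.1 hodd.pow
    have hQ5 : 5 ≤ q ^ k := hq.trans (Nat.le_self_pow (by omega) q)
    obtain ⟨t, ht⟩ : ∃ t, q ^ k = 2 * t + 1 := ⟨q ^ k / 2, by omega⟩
    rw [pow_add, ht] at h
    rcases h with h | h
    · obtain ⟨l, rfl⟩ : ∃ l, i = l + 2 := ⟨i - 2, by
        rcases i with _ | _ | i <;> simp at h ⊢ <;> nlinarith⟩
      rw [pow_add, show (2 : ℕ) ^ 2 = 4 by norm_num] at h
      ring_nf at h
      omega
    · have h2 : 2 ^ i = (2 * t) * (2 * t + 2) := by ring_nf at h ⊢; omega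
      obtain ⟨a, -, ha⟩ := (Nat.dvd_prime_pow Nat.prime_two).1 (h2 ▸ dvd_mul_right _ _ : 2 * t ∣ 2 ^ i)
      obtain ⟨b, -, hb⟩ := (Nat.dvd_prime_pow Nat.prime_two).1 (h2 ▸ dvd_mul_left _ _ : 2 * t + 2 ∣ 2 ^ i)
      have hab : a < b := (Nat.pow_lt_pow_iff_right (by norm_num)).1 (ha ▸ hb ▸ Nat.lt_add_of_pos_right two_pos)
      have hdvd : 2 ^ a ∣ 2 ^ b := pow_dvd_pow 2 hab.le
      rw [← ha, ← hb] at hdvd
      have h3 : 2 * t ∣ 2 := (Nat.dvd_add_right dvd_rfl).1 hdvd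
      have := Nat.le_of_dvd two_pos h3
      omega
  · rcases h with h | h
    · have hd : (q + 1) ∣ q ^ j + 1 ^ j := hjo.nat_add_dvd_pow_add_pow q 1
      rw [one_pow] at hd
      obtain ⟨S, hS⟩ := hd
      obtain ⟨l, hl, hSl⟩ := (Nat.dvd_prime_pow Nat.prime_two).1 (h ▸ hS ▸ dvd_mul_left S _ : S ∣ 2 ^ i)
      rcases Nat.eq_zero_or_pos l with rfl | hl0
      · rw [pow_zero] at hSl; subst hSl
        nlinarith
      · obtain ⟨u, hu⟩ : 2 ∣ S := hSl ▸ dvd_pow_self 2 hl0.ne'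
        -- compare modulo `2 (q + 1)`
        have hz : ((q : ℤ) ^ j + 1) = ((q : ℤ) + 1) * S := by exact_mod_cast hS
        have hgs := geom_sum_mul_neg (-(q : ℤ)) j
        rw [hjo.neg_pow, sub_neg_eq_add, sub_neg_eq_add, add_comm (1 : ℤ), add_comm (1 : ℤ), hz,
          mul_comm] at hgs
        have hS' : (∑ i ∈ Finset.range j, (-(q : ℤ)) ^ i) = S :=
          mul_left_cancel₀ (by omega : ((q : ℤ) + 1) ≠ 0) hgs
        have hc := congrArg (fun z : ℤ => (z : ZMod 2)) hS'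
        simp only [Int.cast_sum, Int.cast_pow, Int.cast_neg, Int.cast_natCast] at hc
        rw [(ZMod.natCast_eq_one_iff_odd).2 hodd, show (-1 : ZMod 2) = 1 by decide,
          hu, Nat.cast_mul, show ((2 : ℕ) : ZMod 2) = 0 by decide, zero_mul] at hc
        simp only [one_pow, Finset.sum_const, Finset.card_range, nsmul_eq_mul, mul_one] at hc
        rw [(ZMod.natCast_eq_one_iff_odd).2 hjo] at hc
        exact one_ne_zero hc
    · have hgs : (∑ i ∈ Finset.range j, q ^ i) * (q - 1) + 1 = q ^ j := geom_sum_mul_of_one_le (R := ℕ) (x := q) (by omega) j ▸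
        Nat.sub_add_cancel (Nat.one_le_pow _ _ (by omega : 0 < q))
      set S := ∑ i ∈ Finset.range j, q ^ i with hS
      have hodd' : S % 2 = 1 := by rw [hS, sum_range_mod_two hodd]; exact Nat.odd_iff.1 hjo
      have hd : S ∣ 2 ^ i := ⟨q - 1, by linarith⟩
      obtain ⟨l, -, hl⟩ := (Nat.dvd_prime_pow Nat.prime_two).1 hd
      rcases Nat.eq_zero_or_pos l with rfl | hl0
      · rw [pow_zero] at hl
        rw [hl, one_mul] at hgs
        have : q < q ^ j := lt_of_lt_of_le (by nlinarith) hqj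
        omega
      · have : 2 ∣ S := hl ▸ dvd_pow_self 2 hl0.ne'
        omega

/-- Adjacent divisors greater than one of `2 ^ a * q ^ b`. -/
theorem adjacent {q a b m n : ℕ} (hq : q.Prime) (hq5 : 5 ≤ q) (hm : 1 < m) (hn : 1 < n)
    (hadj : m + 1 = n ∨ n + 1 = m) (hmd : m ∣ 2 ^ a * q ^ b) (hnd : n ∣ 2 ^ a * q ^ b) :
    ∃ i, 1 ≤ i ∧ (m = 2 ^ i ∧ n = q ∨ n = 2 ^ i ∧ m = q) := by
  have hodd : Odd q := hq.odd_of_ne_two (by omega)
  have key : ∀ x y : ℕ, 1 < x → 1 < y → ¬ 2 ∣ x → (x + 1 = y ∨ y + 1 = x) →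
      x ∣ 2 ^ a * q ^ b → y ∣ 2 ^ a * q ^ b → ∃ i, 1 ≤ i ∧ y = 2 ^ i ∧ x = q := by
    intro x y hx hy hx2 hxy hxd hyd
    obtain ⟨j, -, rfl⟩ := (Nat.dvd_prime_pow hq).1
      ((Nat.Coprime.pow_right a ((Nat.Prime.coprime_iff_not_dvd Nat.prime_two).2 hx2).symm).dvd_of_dvd_mul_left hxd)
    have hj : j ≠ 0 := by rintro rfl; rw [pow_zero] at hx; omega
    have hqy : ¬ q ∣ y := fun h => hq.not_dvd_one <| by
      have hqx : q ∣ q ^ j := dvd_pow_self q hj
      rcases hxy with e | e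
      · exact (Nat.dvd_add_right hqx).1 (e ▸ h)
      · exact (Nat.dvd_add_right h).1 (e ▸ hqx)
    obtain ⟨i, -, rfl⟩ := (Nat.dvd_prime_pow Nat.prime_two).1
      ((Nat.Coprime.pow_right b (hq.coprime_iff_not_dvd.2 hqy).symm).dvd_of_dvd_mul_right hyd)
    have hj1 := exp_eq_one hq5 hodd hj (i := i) (hxy.imp id id)
    subst hj1
    refine ⟨i, ?_, rfl, pow_one q⟩
    by_contra h
    have : i = 0 := by omega
    subst this
    rw [pow_zero] at hy
    omega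
  by_cases hm2 : 2 ∣ m
  · obtain ⟨i, hi, h1, h2⟩ := key n m hn hm (by omega) (by tauto) hnd hmd
    exact ⟨i, hi, Or.inl ⟨h1, h2⟩⟩
  · obtain ⟨i, hi, h1, h2⟩ := key m n hm hn hm2 hadj hmd hnd
    exact ⟨i, hi, Or.inr ⟨h1, h2⟩⟩

end Cfsg.Lib.NinePrime
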