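import Cfsg.Agent.Lib.Small.BlockShape
import Cfsg.Agent.Lib.Block.DegreePSubTwo
import Cfsg.Agent.Lib.Char.Correspondence

/-!
# A rational character of prime degree

In a simple group a character of prime degree `q`, integral on the `q`-elements, vanishes on the
nontrivial `q`-elements, so the Sylow `q`-subgroup has order at most `q`.
-/

set_option autoImplicit false
set_option linter.unusedSectionVars false

namespace Cfsg.Lib.NinePrime

open Cfsg Cfsg.Lib

universe u

variable {G : Type u} [Group G] [Fintype G] [IsSimpleGroup G]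

theorem center_eq_bot (hna : ¬ IsMulCommutative G) : Subgroup.center G = ⊥ :=
  (inferInstance : (Subgroup.center G).Normal).eq_bot_or_eq_top.resolve_right fun h =>
    hna ⟨⟨fun a b => (Subgroup.mem_center_iff.mp (h ▸ Subgroup.mem_top b) a)⟩⟩

theorem card_sylow_dvd_of_integral (hna : ¬ IsMulCommutative G) {q : ℕ} [Fact q.Prime]
    {χ : IrrCharacter G} (hne : χ ≠ Small.one' G) (hdeg : charDegree (χ : G → ℂ) = q)
    (hint : ∀ g : G, (∃ k : ℕ, orderOf g = q ^ k) → ∃ n : ℤ, (χ : G → ℂ) g = n)
    (Q : Sylow q G) : Nat.card (Q : Subgroup G) ∣ q := by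
  classical
  have hq : q.Prime := Fact.out
  have h1 : (χ : G → ℂ) 1 = (q : ℂ) := by rw [Block.apply_one_eq_charDegree, hdeg]
  have hzero : ∀ g ∈ (Q : Subgroup G), g ≠ 1 → (χ : G → ℂ) g = 0 := by
    intro g hg hg1
    obtain ⟨k, hk⟩ := IsPGroup.iff_orderOf.1 Q.2 ⟨g, hg⟩
    rw [Subgroup.orderOf_mk] at hk
    obtain ⟨n, hn⟩ := hint g ⟨k, hk⟩
    have hmod := Char.modEq_degree_of_prime_pow χ.2.isCharacter hq (x := g) (k := k)
      (by rw [← hk, pow_orderOf_eq_one]) hn h1
    have hdvd : (q : ℤ) ∣ n := by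
      have := (Int.modEq_iff_dvd.1 hmod)
      simpa using dvd_add this (dvd_refl (q : ℤ))
    have hle : ‖(χ : G → ℂ) g‖ ≤ q := by
      have := χ.2.isCharacter.norm_le g
      rwa [h1, Complex.natCast_re] at this
    have hne' : ‖(χ : G → ℂ) g‖ ≠ q := fun h => by
      have hmem := Block.mem_center_of_norm_eq χ.2 (fun x hx => Small.eq_one_of_apply_eq hne hx) h1 h
      rw [center_eq_bot hna, Subgroup.mem_bot] at hmem
      exact hg1 hmem
    obtain ⟨c, rfl⟩ := hdvd
    rw [hn] at hle hne' ⊢
    rw [Complex.norm_intCast, Int.cast_mul, abs_mul, Int.cast_natCast, Nat.abs_cast] at hle hne'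
    have hq0 : (0 : ℝ) < q := by exact_mod_cast hq.pos
    have hc : |c| < 1 := by
      by_contra hc
      push Not at hc
      have hc' : (1 : ℝ) ≤ |(c : ℝ)| := by exact_mod_cast hc
      rcases hc'.eq_or_lt with e | e
      · exact hne' (by rw [← e, mul_one])
      · nlinarith
    rw [Int.abs_lt_one_iff.1 hc]
    simp
  letI : Fintype (Q : Subgroup G) := Fintype.ofFinite _
  obtain ⟨m, hm⟩ := (χ.2.isCharacter.comp (Q : Subgroup G).subtype).exists_nat_classInner
    (Block.trivChar (Q : Subgroup G)).2.isCharacter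
  rw [Block.trivChar_coe, Char.classInner_one_right] at hm
  simp only [Subgroup.coe_subtype] at hm
  rw [Finset.sum_eq_single (1 : (Q : Subgroup G))
    (fun b _ hb => hzero b b.2 fun h => hb (Subtype.ext h))
    (fun h => absurd (Finset.mem_univ _) h),
    inv_mul_eq_iff_eq_mul₀ (Nat.cast_ne_zero.2 Nat.card_pos.ne')] at hm
  rw [OneMemClass.coe_one, h1] at hm
  exact ⟨m, by exact_mod_cast hm⟩

end Cfsg.Lib.NinePrime
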